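import Mathlib
import Cfsg.Prelude.Def_OddOrderLocal
import Cfsg.Agent.Lib.Helper9.S51IStmt

set_option autoImplicit false

/-!
# S1366 (the partner `M*` of a maximal subgroup with `K ≠ 1`): statements of the pieces (helper55)

Setting: `M` maximal, `M = K U M_σ` (`IsSigmaDecomposition M K U`), `K ≠ 1`,
`Ks = C_{M_σ}(K)`, `Z = K ⊔ Ks`.

Route.  For a prime `q ∣ |K|` take `Y ≤ K` of order `q` and `H` maximal over `N_G(Y)`: the base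
facts of helper9's `S51IStmt` (`HS M Y H q`; all landed, closed forms in
`Cfsg.Agent.Lib.Helper55.S66Base`) give a Hall `κ(H)`-subgroup `K2 ⊇ Ks` of `H` with
`K2 ⊔ C_{H_σ}(K2) = Z` and `C_{H_σ}(K2) ≤ K` (`Part`).  All these `H` share `Z`; if two of them
differ, the family `{M} ∪ {H_q}` has three members sharing `Z`, each member then has `U = 1`
(`KPr`), and helper90's family count (`Cfsg.Agent.Lib.Helper90.FamCount.main`) gives a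
contradiction (`FamCore`).  So all `H_q` are one `Ms`, `K ≤ Ms_σ`, and `K = C_{Ms_σ}(Ks)`,
`K2 = Ks`.  Uniqueness: S1367.

`KCyc` (Hall `κ`-subgroups are cyclic) is S1351, clause 2; it is a HYPOTHESIS of the pieces that
need it until S1351 lands.

Landed tools: `Cfsg.Agent.Lib.Helper55.S66Base.{l3, sDj, gen3, mH, centC, l4, centD, fixC, fixD,
primAct}` (closed), `Cfsg.Agent.Lib.Helper73.BG143Final.{claimC, primes, memKappa, r2, noKT}`,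
`Cfsg.Agent.S1352/S1353/S1354/S1404/S1429/S1432/S1446/S1378.result`,
`Cfsg.Agent.Lib.Helper9.BG11b.{sigmaCore_le, sigmaCore_normal, mem_sigma_of_dvd, le_sigmaCore,
le_sigmaCore_of_isPGroup, card_mul_relIndex, normalizer_ne_top, exists_coatom_ge, sigma_cj}`,
`Cfsg.Agent.Lib.Helper9.BG10a.isSolvable_of_ne_top`, `Cfsg.Agent.Lib.Helper39.PGA.exists_isHallIn`
(model: `Cfsg.Agent.Lib.Helper55.S34HALL`), `Cfsg.Agent.Lib.Helper47.Syl.exists_mul_of_mem_sup_left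
/right`, `Cfsg.Agent.Lib.Helper90.Conj.le_normalizer_of_conj`,
`Cfsg.Agent.Lib.Helper90.BG14U.uset_of_decomp` (`.compl : IsComplIn (K ⊔ U) (sigmaCore M) M`),
`Cfsg.Agent.Lib.Helper23.TypeP.card_of_isComplIn`, `Cfsg.Agent.Lib.Helper22.BG1210.
coprime_card_sigmaCore`, `Cfsg.Agent.Lib.Helper9.S28Pure.exists_invariant_isSyl`,
`Cfsg.Agent.Lib.Helper90.FamCount.{main, sigma_disj}`, `Subgroup.inf_eq_bot_of_coprime`.
-/

namespace Cfsg.Agent.Lib.Helper55.S66Stmt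

open Cfsg.Agent.Lib.Helper9.S51IStmt

universe u

/-- `K* = C_{M_σ}(K)`. -/
abbrev Ks {G : Type u} [Group G] (M K : Subgroup G) : Subgroup G :=
  Cfsg.sigmaCore M ⊓ Subgroup.centralizer (K : Set G)

/-- S1351, clause 2 (hypothesis until S1351 lands). -/
def KCyc : Prop :=
  ∀ {G : Type u} [Group G] [Finite G], Cfsg.IsMinSimpleOddOrder G →
  ∀ (N : Subgroup G), IsCoatom N → ∀ K : Subgroup G, Cfsg.IsPiHallOf (Cfsg.kappa N) K N →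
    IsCyclic K

/-- `N` is a maximal subgroup with a nontrivial cyclic Hall `κ(N)`-subgroup `KN` such that
`KN ⊔ C_{N_σ}(KN) = Z`. -/
structure Mem {G : Type u} [Group G] (Z N KN : Subgroup G) : Prop where
  hN : IsCoatom N
  hall : Cfsg.IsPiHallOf (Cfsg.kappa N) KN N
  cyc : IsCyclic KN
  ne : KN ≠ ⊥
  hZ : KN ⊔ Ks N KN = Z

/-- The setting of the local pieces: `Y ≤ K` of prime order `q`, `H` maximal over `N_G(Y)`,
`q ∈ σ(H)`. -/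
structure PS {G : Type u} [Group G] (M K U Y H : Subgroup G) (q : ℕ) : Prop where
  dec : Cfsg.IsSigmaDecomposition M K U
  hYK : Y ≤ K
  hs : HS M Y H q

/-! ## Pieces -/

/-- HALLGE (pure): in a solvable subgroup `H`, a `π`-subgroup `X ≤ H` lies in a Hall
`π`-subgroup of `H`.  (`Cfsg.Agent.Lib.Helper39.PGA.exists_isHallIn` in the group `↥H` (with
`H := ⊤`, `π := (· ∈ π)`) gives `L` with `.pi`, `.fac` and `.conj`: a conjugate (inside `H`) of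
`L` contains `X`; take its image in `G`.  Model: the second half of
`Cfsg.Agent.Lib.Helper55.S34HALL.main`; `relIndex` via `BG11b.card_mul_relIndex` and
factorizations.) -/
def HallGe : Prop :=
  ∀ {G : Type u} [Group G] [Finite G] (π : Set ℕ) (H X : Subgroup G), Group.IsSolvable H →
    X ≤ H → (∀ p : ℕ, p.Prime → p ∣ Nat.card X → p ∈ π) →
    ∃ K2 : Subgroup G, Cfsg.IsPiHallOf π K2 H ∧ X ≤ K2

/-- PARTHS: the setting exists for every prime `q ∣ |K|`.  (Cauchy: `y ∈ K` of order `q`,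
`Y := zpowers y`, `|Y| = q`; `q ∈ κ(M)` (`hKU.hall.2.1`); `Y ≠ ⊥`, `Y ≠ ⊤` (`Y ≤ M ≠ ⊤`):
`BG11b.normalizer_ne_top hG _ _`, `BG11b.exists_coatom_ge` give `H`; `q ∈ σ(H)` by
`S66Base.l3 hG M Y H q hM _ _ _ hH hN`.  Model: the middle of `Helper9.S51IMain.main`.) -/
def PartHS : Prop :=
  ∀ {G : Type u} [Group G] [Finite G], Cfsg.IsMinSimpleOddOrder G →
  ∀ (M K U : Subgroup G), IsCoatom M → Cfsg.IsSigmaDecomposition M K U →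
  ∀ q : ℕ, q.Prime → q ∣ Nat.card K → ∃ Y H : Subgroup G, PS M K U Y H q

/-- PARTA: a Hall `κ(H)`-subgroup of `H` containing `Ks`.  (`C_{M_σ}(Y) = Ks`: `Y = ⟨y⟩`,
`y ∈ K`, `y ≠ 1`, `S66Base.primAct hG M K U hM h.dec y _ _ : M_σ ⊓ C{y} = Ks`, and
`C(Y) = C{y}`.  `S66Base.mH : M_σ ⊓ H = CR M Y = Ks`, so `Ks ≤ H`.  A prime `t ∣ |Ks|`: Cauchy
gives `c ∈ Ks` of order `t`, and `S66Base.l4 hG M Y H q h.hs c _ _ : t ∈ κ(H)`.  `H` is solvable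
(`BG10a.isSolvable_of_ne_top hG h.hs.hH.1`); `HallGe`.) -/
def PartA : Prop :=
  ∀ {G : Type u} [Group G] [Finite G], Cfsg.IsMinSimpleOddOrder G →
  ∀ (M K U Y H : Subgroup G) (q : ℕ), PS M K U Y H q →
    ∃ K2 : Subgroup G, Cfsg.IsPiHallOf (Cfsg.kappa H) K2 H ∧ Ks M K ≤ K2

/-- PARTD: `M ∩ H_σ ≤ K`.  (`D := M ⊓ H_σ`; `Ks ≠ ⊥` (`S1354.result hG M hM K h.dec.cyclic
h.dec.hall`).1, `c ∈ Ks`, `c ≠ 1`; `c ∈ M_σ ⊓ H` (`mH` as in PARTA).  Let `d ∈ D` have prime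
order `t`: `t ∈ σ(H)` (`mem_sigma_of_dvd`), so `t ∉ σ(M)` (`S66Base.sDj`); `c d = d c`
(`S66Base.gen3 hG M H _ _ (sDj ..) c _ d _`); `S1432.result hG M hM c _ _ d _ _ _`: either
`t ∈ κ(M)`, or `M` is the only maximal subgroup over `C_G(d)`; but `C_G(d) ≤ H`
(`S66Base.centD`), so `H = M`, against `q ∈ σ(H)`, `q ∉ σ(M)` (`q ∈ κ(M)`).  So `D` is a
`κ(M)`-subgroup of `M` (Cauchy); `HallGe` (`M` solvable): `D ≤ K'`, a Hall `κ(M)`-subgroup of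
`M`, cyclic by `KCyc`, hence abelian.  `Y ≤ D` (`Y ≤ M`; `Y ≤ H` is a `q`-group, `q ∈ σ(H)`:
`le_sigmaCore_of_isPGroup`), so `D` centralizes `y` (a generator of `Y`):
`D ≤ M ⊓ C{y} = K ⊔ Ks` (`(S1354.result ..).2 hK1 y _ _`).  `d = k s` (`k ∈ K`, `s ∈ Ks`
commuting), `n := |Ks|`: `d^n = k^n ∈ K`; `o(d)` is prime to `n` (`o(d) ∣ |D| ∣ |K'|` has its
primes in `κ(M)`, `n ∣ |M_σ|` has its primes in `σ(M)`), so `d ∈ ⟨d^n⟩ ≤ K`.) -/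
def PartD : Prop :=
  ∀ {G : Type u} [Group G] [Finite G], Cfsg.IsMinSimpleOddOrder G →
  ∀ (M K U Y H : Subgroup G) (q : ℕ), PS M K U Y H q → M ⊓ Cfsg.sigmaCore H ≤ K

/-- PARTB: `K2 ⊔ C_{H_σ}(K2) = K ⊔ Ks` and `C_{H_σ}(K2) ≤ K`.  (`K2` is cyclic (`KCyc`),
`≠ ⊥` (`Ks ≠ ⊥` by S1354).  `S1352.result hG H hH K2 _ hK2` gives `U2` with
`IsSigmaDecomposition H K2 U2`.  `c ∈ Ks`, `c ≠ 1`: `c ∈ K2`, so
`K2s := H_σ ⊓ C(K2) = H_σ ⊓ C{c}` (`S66Base.primAct` for `H`) `= M ⊓ H_σ` (`S66Base.fixC`,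
`c ∈ CR M Y = Ks`) `≤ K` (hypothesis `hD`).  `K2 ≤ C{c}` (`K2` abelian, `c ∈ K2`) `≤ M`
(`S66Base.centC`).  A generator `y` of `Y` lies in `M ⊓ H_σ = K2s ≤ C(K2)`, so
`K2 ≤ M ⊓ C{y} = K ⊔ Ks` (S1354 for `M`); with `K2s ≤ K`: `K2 ⊔ K2s ≤ K ⊔ Ks`.  Conversely
`Ks ≤ K2`, and `K ≤ H` (`K` abelian, `Y ≤ K`: `K ≤ N_G(Y) ≤ H`), `K ≤ C{c}`, so
`K ≤ H ⊓ C{c} = K2 ⊔ K2s` (S1354 for `H`, `K2`, `c`).) -/
def PartB : Prop :=
  ∀ {G : Type u} [Group G] [Finite G], Cfsg.IsMinSimpleOddOrder G →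
  ∀ (M K U Y H : Subgroup G) (q : ℕ), PS M K U Y H q →
  ∀ K2 : Subgroup G, Cfsg.IsPiHallOf (Cfsg.kappa H) K2 H → Ks M K ≤ K2 →
    M ⊓ Cfsg.sigmaCore H ≤ K → Mem (K ⊔ Ks M K) H K2 ∧ Ks H K2 ≤ K

/-- PART (glue of PARTHS, PARTA, PARTD, PARTB; `K ≤ H` as in PARTB). -/
def Part : Prop :=
  ∀ {G : Type u} [Group G] [Finite G], Cfsg.IsMinSimpleOddOrder G →
  ∀ (M K U : Subgroup G), IsCoatom M → Cfsg.IsSigmaDecomposition M K U →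
  ∀ q : ℕ, q.Prime → q ∣ Nat.card K →
    ∃ H K2 : Subgroup G, Mem (K ⊔ Ks M K) H K2 ∧ q ∈ Cfsg.sigma H ∧ Ks M K ≤ K2 ∧
      Ks H K2 ≤ K ∧ K ≤ H

/-- KPR: if `U ≠ 1` (and `K ≠ 1`) then `K` has prime order.  (`E := K ⊔ U` is a complement of
`M_σ` (`uset_of_decomp .compl`), `|M| = |U| · |K ⊔ M_σ|` (`card_of_isComplIn hKU.compl`).  Let
`r ∣ |U|` be prime.  `r ∉ σ(M)` (`|E|` is prime to `|M_σ|`: `|M| = |E||M_σ|`, and a prime of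
`σ(M)` does not divide `|M : M_σ|`: `BG1210.coprime_card_sigmaCore` / S1350).  `r ∉ κ(M)`:
else `r ∤ K.relIndex M` (Hall), but `|U|` divides `K.relIndex M` (`|M| = |U| · |K ⊔ M_σ|` and
`|K|` divides `|K ⊔ M_σ|`).  In particular `r ∤ |K|`, and `hP1` of S1429 holds (witness `r`).
`|K|`, `|U|` coprime (same argument for every prime of `|U|`), `K ≤ N(U)`, `U` solvable
(`BG10a.isSolvable_of_ne_top`-style, `U ≤ M`): `S28Pure.exists_invariant_isSyl` gives a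
`K`-invariant Sylow `r`-subgroup `T` of `U`; `T` is a Sylow `r`-subgroup of `M`
(`r ∤ |M : U| = |K ⊔ M_σ|`, as `|K ⊔ M_σ|` divides `|K||M_σ|`).  `A := closure {x ∈ T | x^r = 1}`
is `K`-invariant, `≠ ⊥`, `≤ U`.  S1429 (`p := r`, `S :=` the Sylow of `M` with image `T`):
`M_σ ⊓ C(A) = ⊥` and `M_σ` nilpotent.  S1446 with `K := A`, `R := K`, `M := M_σ`: `A ⊓ K = ⊥`
(`U ⊓ (K ⊔ M_σ) = ⊥`), `hfrob` from `S1353.result` (`U ⊓ C{k} = ⊥`), `A ⊔ K ≤ M` solvable of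
odd order, `M_σ ≠ ⊥` (`Ks ≠ ⊥`, S1354), `A, K ≤ M ≤ N(M_σ)`, `|A ⊔ K|` divides `|E|`, prime to
`|M_σ|`, `hpr` is `S66Base.primAct`.  Conclusion `.1`.) -/
def KPr : Prop :=
  ∀ {G : Type u} [Group G] [Finite G], Cfsg.IsMinSimpleOddOrder G →
  ∀ (M K U : Subgroup G), IsCoatom M → Cfsg.IsSigmaDecomposition M K U → K ≠ ⊥ → U ≠ ⊥ →
    (Nat.card K).Prime

/-- MCENT: `C_G(x) ≤ N` for `1 ≠ x ∈ Z ∩ N_σ`.  (`KN ⊓ N_σ = ⊥` (coprime orders: primes of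
`|KN|` are in `κ(N)`, hence not in `σ(N)`; primes of `|N_σ|` are in `σ(N)`).  `x = k s`
(`k ∈ KN`, `s ∈ Ks N KN`; `KN` normalizes `Ks N KN`), `k = x s⁻¹ ∈ KN ⊓ N_σ`, so `x = s`
commutes with `KN`.  `x' ∈ KN` of prime order (Cauchy, `KN ≠ ⊥`), `o(x') ∈ κ(N)`:
`BG143Final.claimC hG N hN x x' ..`.) -/
def MCent : Prop :=
  ∀ {G : Type u} [Group G] [Finite G], Cfsg.IsMinSimpleOddOrder G →
  ∀ (Z N KN : Subgroup G), Mem Z N KN → ∀ x ∈ Z ⊓ Cfsg.sigmaCore N, x ≠ 1 →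
    Subgroup.centralizer ({x} : Set G) ≤ N

/-- MCOV: if `|KN|` is not a prime then `N = N_σ Z`.  (`S1352.result hG N hN KN h.cyc h.hall`
gives `U` with `IsSigmaDecomposition N KN U`; `KPr`: `U = ⊥`; `hKU.compl.2.2.2 m hm`:
`m = a b`, `a ∈ U = ⊥`, `b ∈ KN ⊔ N_σ`; `b = s k` (`s ∈ N_σ`, `k ∈ KN ≤ Z`;
`Syl.exists_mul_of_mem_sup_left/right`, `N_σ` is normalized by `KN ≤ N`).) -/
def MCov : Prop :=
  ∀ {G : Type u} [Group G] [Finite G], Cfsg.IsMinSimpleOddOrder G →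
  ∀ (Z N KN : Subgroup G), Mem Z N KN → ¬ (Nat.card KN).Prime →
    ∀ m ∈ N, ∃ a ∈ Cfsg.sigmaCore N, ∃ b ∈ Z, m = a * b

/-- MINT: `N ∩ N' ≤ Z` for two members with `σ(N) ∩ σ(N') = ∅` and `N = N_σ Z`.
(`g ∈ N ⊓ N'`, `g = a b` (`a ∈ N_σ`, `b ∈ Z`); `Z ≤ N'`, so `a ∈ N_σ ⊓ N'`.
`d ∈ Ks N' KN'`, `d ≠ 1` (S1354 for `N'`); `d ∈ Z ≤ N`, so `d ∈ N ⊓ N'_σ` and `a d = d a`
(`S66Base.gen3`).  `d ∈ KN`: `d = k s` (`k ∈ KN`, `s ∈ Ks N KN`, commuting), `n := |Ks N KN|`,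
`d^n = k^n ∈ KN`, and `o(d)` (dividing `|N'_σ|`, primes in `σ(N')`) is prime to `n` (dividing
`|N_σ|`, primes in `σ(N)`), so `d ∈ ⟨d^n⟩ ≤ KN`.  `S1352` gives a decomposition of `N`, and
`S66Base.primAct` for `N`, `d`: `a ∈ N_σ ⊓ C{d} = Ks N KN ≤ Z`.  So `g = a b ∈ Z`.) -/
def MInt : Prop :=
  ∀ {G : Type u} [Group G] [Finite G], Cfsg.IsMinSimpleOddOrder G →
  ∀ (Z N KN N' KN' : Subgroup G), Mem Z N KN → Mem Z N' KN' →
    (∀ p : ℕ, p ∈ Cfsg.sigma N → p ∉ Cfsg.sigma N') →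
    (∀ m ∈ N, ∃ a ∈ Cfsg.sigmaCore N, ∃ b ∈ Z, m = a * b) → N ⊓ N' ≤ Z

/-- NCONJ: two conjugate members are equal, if a prime of `σ(N)` divides `|Z|`.
(`p ∣ |Z|`, and `|Z|` divides `|KN| · |Ks N KN|`, `p ∤ |KN|` (`p ∈ σ(N)`, primes of `|KN|` are
in `κ(N)`): `p ∣ |Ks N KN|`; Cauchy: `x ∈ Ks N KN` of order `p`, `X := zpowers x ≤ N`.
`x ∈ Z ≤ N' = g N g⁻¹`, so `g⁻¹ X g ≤ N`; `(S1404.result hG N hN p hp X _ _ _).1 g⁻¹ _`: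
`g⁻¹ = m c`, `m ∈ N`, `c ∈ C(X) ≤ C{x} ≤ N` (`MCent`; `x ∈ Z ⊓ N_σ`).  So `g ∈ N` and
`g N g⁻¹ = N`.) -/
def NConj : Prop :=
  ∀ {G : Type u} [Group G] [Finite G], Cfsg.IsMinSimpleOddOrder G →
  ∀ (Z N KN N' KN' : Subgroup G), Mem Z N KN → Mem Z N' KN' →
    (∃ p ∈ Cfsg.sigma N, p ∣ Nat.card Z) →
    ∀ g : G, N' = N.map (MulAut.conj g).toMonoidHom → N' = N

/-- FAMCORE: no set of at least three members sharing `Z`, each with a prime of its `σ` dividing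
`|Z|`, covers the primes of `|Z|`.  (Index the set by `Fin (Nat.card ↥𝒮)` (`Finite.equivFin`),
choose `KL i`.  Pairwise non-conjugate by `NConj`; `FamCount.sigma_disj`; for each `i` two other
members `j ≠ k` give primes `p_j ≠ p_k` dividing `|Z|` and not `|Ks (L i) (KL i)|`, so
`p_j p_k ∣ |KL i|`: not a prime; `MCov`, `MCent`, `MInt`; `FamCount.main`.) -/
def FamCore : Prop :=
  ∀ {G : Type u} [Group G] [Finite G], Cfsg.IsMinSimpleOddOrder G →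
  ∀ (Z : Subgroup G) (𝒮 : Set (Subgroup G)),
    (∃ A ∈ 𝒮, ∃ B ∈ 𝒮, ∃ C ∈ 𝒮, A ≠ B ∧ A ≠ C ∧ B ≠ C) →
    (∀ N ∈ 𝒮, ∃ KN : Subgroup G, Mem Z N KN) →
    (∀ N ∈ 𝒮, ∃ p ∈ Cfsg.sigma N, p ∣ Nat.card Z) →
    (∀ p : ℕ, p.Prime → p ∣ Nat.card Z → ∃ N ∈ 𝒮, p ∈ Cfsg.sigma N) → False

/-- EXI: the existence half of S1366. -/
def Exi : Prop :=
  ∀ {G : Type u} [Group G] [Finite G], Cfsg.IsMinSimpleOddOrder G →
  ∀ (M K U : Subgroup G), IsCoatom M → Cfsg.IsSigmaDecomposition M K U → K ≠ ⊥ →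
    ∃ Ms : Subgroup G, IsCoatom Ms ∧ K = Cfsg.sigmaCore Ms ⊓ Subgroup.centralizer (Ks M K : Set G) ∧
      Cfsg.IsPiHallOf (Cfsg.kappa Ms) (Ks M K) Ms

end Cfsg.Agent.Lib.Helper55.S66Stmt
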