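import Mathlib
import Cfsg.Agent.Lib.Helper25.ACStmt
import Cfsg.Agent.Lib.Helper25.ACOddStmt

set_option autoImplicit false

/-!
# S3911 piece BURNA (third seat, helper55)

`G = M P`, `P` a cyclic Sylow `p`-subgroup not inside the normal subgroup `M`: `N(P) ≤ C(P)`.
-/

namespace Cfsg.Agent.Lib.Helper55.AOBURNA

universe u

open Cfsg.Agent.Lib.Helper25.ACStmt Cfsg.Agent.Lib.Helper25.ACOddStmt

open scoped Pointwise

theorem main : BurnA.{u} := by
  intro G _ _ p _ P hcyc M hMn hPM hsup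
  classical
  have hp : p.Prime := Fact.out
  obtain ⟨x, hx⟩ := hcyc.exists_generator
  obtain ⟨m, hm⟩ := IsPGroup.exists_card_eq (P.isPGroup')
  have hpow : ∀ z ∈ (P : Subgroup G), ∃ j : ℤ, z = (x : G) ^ j := by
    intro z hz
    obtain ⟨j, hj⟩ := Subgroup.mem_zpowers_iff.1 (hx ⟨z, hz⟩)
    refine ⟨j, ?_⟩
    have := congrArg Subtype.val hj
    simpa using this.symm
  have hxM : (x : G) ∉ M := by
    intro h
    apply hPM
    intro z hz
    obtain ⟨j, rfl⟩ := hpow z hz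
    exact M.zpow_mem h j
  have hm1 : 1 ≤ m := by
    rcases Nat.eq_zero_or_pos m with h0 | h0
    · exfalso
      rw [h0, pow_zero] at hm
      have hsub : Subsingleton ↥(P : Subgroup G) := (Nat.card_eq_one_iff_unique.1 hm).1
      have h1 : x = 1 := Subsingleton.elim x 1
      apply hxM
      rw [h1]
      exact M.one_mem
    · exact h0
  have hox : orderOf (x : G) ∣ p ^ m := by
    rw [← hm, Subgroup.orderOf_coe]
    exact orderOf_dvd_natCard x
  have hPcomm : ∀ a ∈ (P : Subgroup G), ∀ b ∈ (P : Subgroup G), a * b = b * a := by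
    intro a ha b hb
    obtain ⟨i, rfl⟩ := hpow a ha
    obtain ⟨j, rfl⟩ := hpow b hb
    exact ((Commute.refl (x : G)).zpow_zpow i j).eq
  have hcent : ∀ h : G, h * (x : G) = (x : G) * h →
      h ∈ Subgroup.centralizer ((P : Subgroup G) : Set G) := by
    intro h hh
    rw [Subgroup.mem_centralizer_iff]
    intro z hz
    obtain ⟨j, rfl⟩ := hpow z hz
    have hc : Commute h (x : G) := hh
    exact (hc.zpow_right j).eq.symm
  intro g hg
  have hgx : g * (x : G) * g⁻¹ ∈ (P : Subgroup G) :=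
    (Subgroup.mem_normalizer_iff.1 hg (x : G)).1 x.2
  obtain ⟨a, ha⟩ : ∃ a : ℕ, (x : G) ^ a = g * (x : G) * g⁻¹ := by
    have h1 := hx ⟨_, hgx⟩
    rw [← mem_powers_iff_mem_zpowers] at h1
    obtain ⟨a, ha⟩ := (Submonoid.mem_powers_iff _ _).1 h1
    refine ⟨a, ?_⟩
    have := congrArg Subtype.val ha
    simpa using this
  -- decomposition g = m₀ * y
  have hgmul : g ∈ ((M : Set G) * ((P : Subgroup G) : Set G)) := by
    have := hMn
    rw [← Subgroup.normal_mul]
    show g ∈ M ⊔ (P : Subgroup G)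
    rw [hsup]
    exact Subgroup.mem_top g
  obtain ⟨m₀, hm₀, y, hy, hgy⟩ := Set.mem_mul.1 hgmul
  -- image in the quotient
  have := hMn
  have hbar : ((QuotientGroup.mk' M) (x : G)) ^ a = ((QuotientGroup.mk' M) (x : G)) ^ 1 := by
    rw [pow_one, ← map_pow, ha, ← hgy]
    have hyx : y * (x : G) * y⁻¹ = (x : G) := by
      rw [hPcomm y hy (x : G) x.2]; group
    have h2 : m₀ * y * (x : G) * (m₀ * y)⁻¹ = m₀ * (y * (x : G) * y⁻¹) * m₀⁻¹ := by group
    rw [h2, hyx, map_mul, map_mul, map_inv]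
    have h3 : (QuotientGroup.mk' M) m₀ = 1 := by
      rw [QuotientGroup.mk'_apply, QuotientGroup.eq_one_iff]; exact hm₀
    rw [h3]; simp
  have hmod0 := pow_eq_pow_iff_modEq.1 hbar
  have hbar1 : (QuotientGroup.mk' M) (x : G) ≠ 1 := by
    rw [QuotientGroup.mk'_apply, Ne, QuotientGroup.eq_one_iff]; exact hxM
  have hobar : orderOf ((QuotientGroup.mk' M) (x : G)) ∣ p ^ m :=
    (orderOf_map_dvd (QuotientGroup.mk' M) (x : G)).trans hox
  obtain ⟨j, hjm, hj⟩ := (Nat.dvd_prime_pow hp).1 hobar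
  have hj0 : j ≠ 0 := by
    rintro rfl
    rw [pow_zero, orderOf_eq_one_iff] at hj
    exact hbar1 hj
  have hpdvd : p ∣ orderOf ((QuotientGroup.mk' M) (x : G)) := by
    rw [hj]; exact dvd_pow_self p hj0
  have hmod : a ≡ 1 [MOD p] := hmod0.of_dvd hpdvd
  have hdvd : (p : ℤ) ∣ (a : ℤ) - 1 := by
    have := Nat.modEq_iff_dvd.1 hmod.symm
    simpa using this
  have hpw := dvd_sub_pow_of_dvd_sub hdvd (m - 1)
  rw [Nat.sub_add_cancel hm1, one_pow] at hpw
  have hmod2 : a ^ p ^ (m - 1) ≡ 1 [MOD p ^ m] := by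
    apply Nat.ModEq.symm
    rw [Nat.modEq_iff_dvd]
    push_cast
    exact hpw
  have hconj : ∀ n : ℕ, g ^ n * (x : G) * (g ^ n)⁻¹ = (x : G) ^ (a ^ n) := by
    intro n
    induction n with
    | zero => simp
    | succ n ih =>
      have h4 : g ^ (n + 1) * (x : G) * (g ^ (n + 1))⁻¹
          = g * (g ^ n * (x : G) * (g ^ n)⁻¹) * g⁻¹ := by
        rw [pow_succ']; group
      rw [h4, ih, ← conj_pow, ← ha, ← pow_mul, ← pow_succ']
  have h1 : g ^ p ^ (m - 1) ∈ Subgroup.centralizer ((P : Subgroup G) : Set G) := by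
    apply hcent
    have h5 := hconj (p ^ (m - 1))
    have h6 : (x : G) ^ (a ^ p ^ (m - 1)) = (x : G) ^ 1 :=
      pow_eq_pow_iff_modEq.2 (hmod2.of_dvd hox)
    rw [h6, pow_one] at h5
    exact mul_inv_eq_iff_eq_mul.1 h5
  -- the p-part
  set w : G := g ^ (P : Subgroup G).index with hw
  have hw1 : w ^ p ^ m = 1 := by
    rw [hw, ← pow_mul, ← hm, mul_comm, Subgroup.card_mul_index]
    exact pow_card_eq_one'
  have hwN : w ∈ Subgroup.normalizer ((P : Subgroup G) : Set G) := pow_mem hg _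
  have hwp : IsPGroup p ↥(Subgroup.zpowers w) := by
    rintro ⟨z, hz⟩
    obtain ⟨j, rfl⟩ := Subgroup.mem_zpowers_iff.1 hz
    refine ⟨m, Subtype.ext ?_⟩
    show (w ^ j) ^ p ^ m = 1
    rw [← zpow_natCast, ← zpow_mul, mul_comm, zpow_mul, zpow_natCast, hw1, one_zpow]
  have hsupP : IsPGroup p ↥((P : Subgroup G) ⊔ Subgroup.zpowers w) :=
    IsPGroup.to_sup_of_normal_left' P.isPGroup' hwp ((Subgroup.zpowers_le).2 hwN)
  have heq : (P : Subgroup G) ⊔ Subgroup.zpowers w = (P : Subgroup G) :=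
    P.is_maximal' hsupP le_sup_left
  have hwP : w ∈ (P : Subgroup G) := by
    rw [← heq]
    exact (le_sup_right : Subgroup.zpowers w ≤ _) (Subgroup.mem_zpowers w)
  have h2 : w ∈ Subgroup.centralizer ((P : Subgroup G) : Set G) :=
    hcent w (hPcomm w hwP (x : G) x.2)
  have hnd : ¬ p ∣ (P : Subgroup G).index := P.not_dvd_index
  have hcop : Nat.Coprime (P : Subgroup G).index (p ^ (m - 1)) :=
    Nat.Coprime.pow_right (m - 1) ((Nat.Prime.coprime_iff_not_dvd hp).2 hnd).symm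
  have hbez := Nat.gcd_eq_gcd_ab (P : Subgroup G).index (p ^ (m - 1))
  rw [hcop.gcd_eq_one] at hbez
  have hgdec : g = w ^ (Nat.gcdA (P : Subgroup G).index (p ^ (m - 1)))
      * (g ^ p ^ (m - 1)) ^ (Nat.gcdB (P : Subgroup G).index (p ^ (m - 1))) := by
    rw [hw, ← zpow_natCast g, ← zpow_natCast g, ← zpow_mul, ← zpow_mul, ← zpow_add, ← hbez]
    simp
  rw [hgdec]
  exact mul_mem (zpow_mem h2 _) (zpow_mem h1 _)

end Cfsg.Agent.Lib.Helper55.AOBURNA
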