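import Mathlib
import Cfsg.Agent.Lib.Helper25.ACStmt
import Cfsg.Agent.Lib.Helper25.ACOddStmt

set_option autoImplicit false

/-!
# S3911 piece KEYODD (second seat, helper55)
-/

namespace Cfsg.Agent.Lib.Helper55.AOKEYODD

universe u

open Cfsg.Agent.Lib.Helper25.ACStmt Cfsg.Agent.Lib.Helper25.ACOddStmt

theorem main (hMin : MinCase.{u}) : KeyOdd.{u} := by
  intro G _ _ hB M hMn hM1 hodd hOB
  by_cases h : ∃ N : Subgroup G, N.Normal ∧ N ≠ ⊥ ∧ N ≤ M ∧ N ≠ M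
  · obtain ⟨N, hNn, hN1, hNM, hNne⟩ := h
    have hlt : Nat.card ↥N < Nat.card ↥M := by
      by_contra hle
      exact hNne (Subgroup.eq_of_le_of_card_ge hNM (not_lt.1 hle))
    have hoddN : Odd (Nat.card ↥N) := Odd.of_dvd_nat hodd (Subgroup.card_dvd_of_le hNM)
    exact ⟨N, hNn, hN1, hNM, @hOB G _ _ hB N hNn hoddN hlt⟩
  · refine hMin G hB M hMn hM1 hodd ?_
    intro N hNn hNM
    by_contra hc
    rw [not_or] at hc
    exact h ⟨N, hNn, hc.1, hNM, hc.2⟩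

end Cfsg.Agent.Lib.Helper55.AOKEYODD
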