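import Mathlib
import Cfsg.Agent.Lib.Helper30.CTIStmt

set_option autoImplicit false

/-!
helper55: piece MAB of helper30's S4064 call: `M` is abelian (assembly of SQAB and VCARD).
-/

namespace Cfsg.Agent.Lib.Helper55.CTIMAB

universe u

open Cfsg.Agent.Lib.Helper30.CTIStmt

/-- an element `≠ 1` with square `1` has order `2` -/
theorem orderOf_two_of_sq {G : Type u} [Group G] {y : G} (h : y ^ 2 = 1) (h1 : y ≠ 1) :
    orderOf y = 2 := by
  have : Fact (Nat.Prime 2) := ⟨Nat.prime_two⟩
  exact orderOf_eq_prime h h1

theorem main : MAB.{u} := by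
  intro hSQAB hVCARD G _ _ M V hCTI hZD hcv hV hk
  classical
  obtain ⟨k, hk2, hVc, hM⟩ := hk
  have hVM : V ≤ M := fun y hy => ((hV y).mp hy).1
  -- elements of `V` are central in `M`
  have hVcen : ∀ v ∈ V, ∀ m ∈ M, v * m = m * v := by
    intro v hv m hm
    by_cases hv1 : v = 1
    · rw [hv1, one_mul, mul_one]
    · exact hcv v (hVM hv) (orderOf_two_of_sq ((hV v).mp hv).2 hv1) m hm
  rcases hM with hM | hM
  · -- `M = V`
    have hVeq : V = M := Subgroup.eq_of_le_of_card_ge hVM (by rw [hM, hVc])
    intro x hx y hy
    exact hVcen x (hVeq ▸ hx) y hy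
  · -- `|M| = |V|²`
    -- an involution outside `H`
    have hHtop : NM M ≠ ⊤ := hZD.se.1
    obtain ⟨g, hg⟩ : ∃ g : G, g ∉ NM M := by
      by_contra hall
      apply hHtop
      rw [eq_top_iff]
      intro g _
      by_contra hg
      exact hall ⟨g, hg⟩
    have hne : ((1 : G) : G ⧸ NM M) ≠ ((g : G) : G ⧸ NM M) := by
      intro h
      apply hg
      have := QuotientGroup.eq.mp h
      simpa using this
    obtain ⟨u, hu2, hug⟩ := hZD.swap _ _ hne
    have huH : u ∉ NM M := by
      intro hu
      apply hne
      rw [← hug]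
      show ((1 : G) : G ⧸ NM M) = ((u * 1 : G) : G ⧸ NM M)
      rw [QuotientGroup.eq]
      simpa using hu
    have hDc : Nat.card (DU (NM M) u) = 2 ^ k - 1 := by
      rw [hZD.dcard u hu2 huH]
      have := hVCARD G M V hV hZD.invM
      omega
    have hDH : DU (NM M) u ≤ NM M := inf_le_left
    -- an involution of `M`
    have hf2 : Fact (Nat.Prime 2) := ⟨Nat.prime_two⟩
    obtain ⟨v, hv2⟩ := exists_prime_orderOf_dvd_card' (G := M) 2 (even_iff_two_dvd.mp hZD.even)
    have hv2' : orderOf (v : G) = 2 := by rw [Subgroup.orderOf_coe]; exact hv2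
    have hv1 : (v : G) ≠ 1 := by
      intro h
      rw [h, orderOf_one] at hv2'
      exact absurd hv2' (by norm_num)
    refine hSQAB G M V (DU (NM M) u) k hM hVc hDc hV hVcen ?_ ?_ ?_
    · intro d hd m hm
      exact (Subgroup.mem_normalizer_iff.mp (hDH hd) m).mp hm
    · intro d hd hd1 m hm hm1 hcomm
      apply hd1
      have hdM : d ∈ M := by
        apply hZD.cc m hm hm1
        rw [Subgroup.mem_centralizer_iff]
        intro h hh
        rw [Set.mem_singleton_iff] at hh
        rw [hh]; exact hcomm.symm
      have : d ∈ DU (NM M) u ⊓ M := ⟨hd, hdM⟩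
      rw [hZD.dM u hu2 huH] at this
      exact Subgroup.mem_bot.mp this
    · intro y hy d hd
      by_cases hy1 : y = 1
      · rw [hy1]; exact Commute.one_left _
      · have hTI := hCTI y
        have hvC : (v : G) ∈ Subgroup.centralizer ({y} : Set G) := by
          rw [Subgroup.mem_centralizer_iff]
          intro h hh
          rw [Set.mem_singleton_iff] at hh
          rw [hh]
          exact (hcv v v.2 hv2' y hy).symm
        have hdv : d * (v : G) * d⁻¹ ∈ M := (Subgroup.mem_normalizer_iff.mp (hDH hd) v).mp v.2
        have hdv2 : orderOf (d * (v : G) * d⁻¹) = 2 := by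
          apply orderOf_two_of_sq
          · have h2 : (v : G) ^ 2 = 1 := by rw [← hv2']; exact pow_orderOf_eq_one _
            rw [conj_pow, h2, mul_one, mul_inv_cancel]
          · intro h
            apply hv1
            have : (v : G) = d⁻¹ * (d * (v : G) * d⁻¹) * d := by group
            rw [this, h, mul_one, inv_mul_cancel]
        have hdvC : d * (v : G) * d⁻¹ ∈ Subgroup.centralizer ({y} : Set G) := by
          rw [Subgroup.mem_centralizer_iff]
          intro h hh
          rw [Set.mem_singleton_iff] at hh
          rw [hh]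
          exact (hcv _ hdv hdv2 y hy).symm
        have hdN : d ∈ Subgroup.normalizer ((Subgroup.centralizer ({y} : Set G) : Subgroup G) : Set G) := by
          by_contra hdN
          exact hv1 (hTI d hdN v hvC hdvC)
        have hyC : y ∈ Subgroup.centralizer ({y} : Set G) := by
          rw [Subgroup.mem_centralizer_iff]
          intro h hh
          rw [Set.mem_singleton_iff] at hh
          rw [hh]
        have h3 := (Subgroup.mem_normalizer_iff.mp hdN y).mp hyC
        exact Subgroup.mem_centralizer_iff.mp h3 y rfl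

end Cfsg.Agent.Lib.Helper55.CTIMAB
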