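import Mathlib
import Cfsg.Agent.Lib.Helper30.CTIStmt

set_option autoImplicit false

/-!
helper55: piece ZAS of helper30's S4064 call: `G` acting on `G ⧸ N(M)` is a Zassenhaus group of
degree `|M| + 1` (assembly of INVERT, Z3, Z2, Z2T, DEG, Z5).
-/

namespace Cfsg.Agent.Lib.Helper55.CTIZAS

universe u

open Cfsg.Agent.Lib.Helper30.CTIStmt

theorem main : ZAS.{u} := by
  intro hINV hZ3' hZ2' hZ2T hDEG hZ5' G _ _ M hZD hCN hns hnil
  classical
  have hInv := hINV G M hZD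
  have hZ3 := hZ3' G M hZD hInv
  have hZ2 := hZ2' G M hZD hZ3
  have h2T := hZ2T G (NM M) hZ2
  have hdeg := hDEG G M hZD hZ2
  have hZ5 := hZ5' G M hZD hCN hns hnil hdeg
  refine ⟨⟨?_, h2T, hZ3, ?_, hZ5⟩, hdeg⟩
  all_goals
    have : Fintype (G ⧸ NM M) := Fintype.ofFinite _
    have hM2 : 2 ≤ Nat.card M := by
      obtain ⟨r, hr⟩ := hZD.even
      have hpos : 0 < Nat.card M := Nat.card_pos
      omega
    have h3 : 2 < Fintype.card (G ⧸ NM M) := by
      rw [← Nat.card_eq_fintype_card, hdeg]; omega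
    obtain ⟨a, b, c, hab, hac, hbc⟩ := Fintype.two_lt_card_iff.mp h3
  · -- faithful
    refine ⟨fun {g₁ g₂} h => ?_⟩
    have hfix : ∀ x : G ⧸ NM M, (g₂⁻¹ * g₁) • x = x := by
      intro x
      rw [mul_smul, h x, inv_smul_smul]
    have h1 := hZ3 (g₂⁻¹ * g₁) a b c hab hbc hac (hfix a) (hfix b) (hfix c)
    calc g₁ = g₂ * (g₂⁻¹ * g₁) := by group
      _ = g₂ := by rw [h1, mul_one]
  · -- a non-identity element with two fixed points
    obtain ⟨y, hy⟩ : ∃ y : G ⧸ NM M, y ≠ ((1 : G) : G ⧸ NM M) := by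
      by_cases ha : a = ((1 : G) : G ⧸ NM M)
      · exact ⟨b, fun hb => hab (ha.trans hb.symm)⟩
      · exact ⟨a, ha⟩
    obtain ⟨w, hw2, hwy⟩ := hZD.swap ((1 : G) : G ⧸ NM M) y (Ne.symm hy)
    have hwH : w ∉ NM M := by
      intro hw
      apply hy
      rw [← hwy]
      show ((w * 1 : G) : G ⧸ NM M) = ((1 : G) : G ⧸ NM M)
      rw [QuotientGroup.eq]
      simpa using hw
    have hDc := hZD.dcard w hw2 hwH
    have hDne : DU (NM M) w ≠ ⊥ := by
      intro hbot
      rw [hbot, Subgroup.card_bot] at hDc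
      have := hZD.i2
      omega
    obtain ⟨d, hd1⟩ := (Subgroup.ne_bot_iff_exists_ne_one.mp hDne)
    refine ⟨d.1, fun h => hd1 (Subtype.ext h), ((1 : G) : G ⧸ NM M), ((w : G) : G ⧸ NM M), ?_, ?_, ?_⟩
    · intro h
      apply hwH
      have := QuotientGroup.eq.mp h
      simpa using this
    · show ((d.1 * 1 : G) : G ⧸ NM M) = ((1 : G) : G ⧸ NM M)
      rw [QuotientGroup.eq]
      have := (NM M).inv_mem d.2.1
      simpa using this
    · show ((d.1 * w : G) : G ⧸ NM M) = ((w : G) : G ⧸ NM M)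
      rw [QuotientGroup.eq]
      obtain ⟨h, hh, hhd⟩ := d.2.2
      have hd : d.1 = w * h * w⁻¹ := by
        rw [← hhd]; rfl
      have : (d.1 * w)⁻¹ * w = h⁻¹ := by rw [hd]; group
      rw [this]
      exact (NM M).inv_mem hh

end Cfsg.Agent.Lib.Helper55.CTIZAS
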