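import Mathlib
import Cfsg.Agent.Lib.Helper1.PDStmt

set_option autoImplicit false

/-!
# S4020 piece NONCENT (second seat, helper55)
-/

namespace Cfsg.Agent.Lib.Helper55.PDNONCENT

universe u

open Cfsg.Agent.Lib.Helper1.PDStmt

theorem main : NonCent.{u} := by
  intro X _ _ p _ P hcard z hz hoz hzc b hb hbz hbc x hx y hy
  classical
  have hp : p.Prime := Fact.out
  set C : Subgroup ↥P := Subgroup.center ↥P with hC
  have hzC : (⟨z, hz⟩ : ↥P) ∈ C := by
    rw [hC, Subgroup.mem_center_iff]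
    intro g
    apply Subtype.ext
    exact hzc g.1 g.2
  have hbC : (⟨b, hb⟩ : ↥P) ∈ C := by
    rw [hC, Subgroup.mem_center_iff]
    intro g
    apply Subtype.ext
    exact hbc g.1 g.2
  have hCdvd : Nat.card ↥C ∣ p ^ 3 := hcard ▸ Subgroup.card_subgroup_dvd_card C
  obtain ⟨k, hk3, hk⟩ := (Nat.dvd_prime_pow hp).1 hCdvd
  have hZle : Subgroup.zpowers (⟨z, hz⟩ : ↥P) ≤ C := by
    rw [Subgroup.zpowers_le]; exact hzC
  have hZcard : Nat.card ↥(Subgroup.zpowers (⟨z, hz⟩ : ↥P)) = p := by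
    rw [Nat.card_zpowers, Subgroup.orderOf_mk, hoz]
  have hbnot : (⟨b, hb⟩ : ↥P) ∉ Subgroup.zpowers (⟨z, hz⟩ : ↥P) := by
    intro h
    obtain ⟨n, hn⟩ := Subgroup.mem_zpowers_iff.1 h
    apply hbz
    refine Subgroup.mem_zpowers_iff.2 ⟨n, ?_⟩
    have := congrArg Subtype.val hn
    simpa using this
  have hgt : p < Nat.card ↥C := by
    by_contra hle
    push_neg at hle
    have heq : Subgroup.zpowers (⟨z, hz⟩ : ↥P) = C :=
      Subgroup.eq_of_le_of_card_ge hZle (by rw [hZcard]; exact hle)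
    exact hbnot (heq ▸ hbC)
  have hk2 : 2 ≤ k := by
    by_contra hlt
    push_neg at hlt
    interval_cases k
    · rw [hk] at hgt; simp at hgt; exact absurd hgt (by have := hp.one_lt; omega)
    · rw [hk] at hgt; simp at hgt
  have hmul : Nat.card (↥P ⧸ C) * Nat.card ↥C = p ^ 3 := by
    rw [← Subgroup.card_eq_card_quotient_mul_card_subgroup, hcard]
  have hcyc : IsCyclic (↥P ⧸ C) := by
    have hk' : k = 2 ∨ k = 3 := by omega
    rcases hk' with rfl | rfl
    · have h1 : Nat.card (↥P ⧸ C) = p := by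
        rw [hk] at hmul
        have h2 : Nat.card (↥P ⧸ C) * p ^ 2 = p * p ^ 2 := by rw [hmul]; ring
        exact Nat.eq_of_mul_eq_mul_right (pow_pos hp.pos 2) h2
      exact isCyclic_of_prime_card h1
    · have h1 : Nat.card (↥P ⧸ C) = 1 := by
        rw [hk] at hmul
        have h2 : Nat.card (↥P ⧸ C) * p ^ 3 = 1 * p ^ 3 := by rw [hmul]; ring
        exact Nat.eq_of_mul_eq_mul_right (pow_pos hp.pos 3) h2
      have : Subsingleton (↥P ⧸ C) := (Nat.card_eq_one_iff_unique.1 h1).1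
      exact isCyclic_of_subsingleton
  have hcomm := commutative_of_cyclic_center_quotient (QuotientGroup.mk' C)
    (by rw [QuotientGroup.ker_mk']) (⟨x, hx⟩ : ↥P) ⟨y, hy⟩
  exact congrArg Subtype.val hcomm

end Cfsg.Agent.Lib.Helper55.PDNONCENT
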