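import Mathlib
import Cfsg.Agent.Lib.Helper1.PDStmt

set_option autoImplicit false

/-!
# S4020 piece QSTEP (second seat, helper55)
-/

namespace Cfsg.Agent.Lib.Helper55.PDQSTEP

universe u

open Cfsg.Agent.Lib.Helper1.PDStmt

theorem main : QStep.{u} := by
  intro G _ _ M _ p _ P hPM
  classical
  have hsurj : Function.Surjective (QuotientGroup.mk' M) := QuotientGroup.mk'_surjective M
  refine ⟨P.mapSurjective hsurj, rfl, ?_⟩
  show Nat.card ↥((P : Subgroup G).map (QuotientGroup.mk' M)) = Nat.card ↥(P : Subgroup G)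
  have hinj : Function.Injective ((QuotientGroup.mk' M).comp (P : Subgroup G).subtype) := by
    rw [← MonoidHom.ker_eq_bot_iff, eq_bot_iff]
    intro x hx
    rw [MonoidHom.mem_ker] at hx
    have hxM : (x : G) ∈ M := by
      have h1 : (QuotientGroup.mk' M) (x : G) = 1 := hx
      rw [QuotientGroup.mk'_apply, QuotientGroup.eq_one_iff] at h1
      exact h1
    have hx1 : (x : G) ∈ (P : Subgroup G) ⊓ M := ⟨x.2, hxM⟩
    rw [hPM, Subgroup.mem_bot] at hx1
    rw [Subgroup.mem_bot]
    exact Subtype.ext hx1
  have hrange : ((QuotientGroup.mk' M).comp (P : Subgroup G).subtype).range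
      = (P : Subgroup G).map (QuotientGroup.mk' M) := by
    rw [MonoidHom.range_comp, Subgroup.range_subtype]
  rw [← hrange]
  exact (Nat.card_congr (MonoidHom.ofInjective hinj).toEquiv).symm

end Cfsg.Agent.Lib.Helper55.PDQSTEP
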