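import Mathlib
import Cfsg.Agent.Lib.Helper9.S51IStmt
import Cfsg.Agent.Lib.Helper24.S52NORM
import Cfsg.Agent.Lib.Helper9.BG11b
import Cfsg.Agent.Lib.Helper60.BG14SIGDEC

/-!
# S1351 piece IQH (text by helper84, compiled and landed by helper55): in case (i), `q ∉ σ(H)`
-/

set_option autoImplicit false

namespace Cfsg.Agent.Lib.Helper55.S51IQH

open Cfsg Cfsg.Agent.Lib.Helper9.S51IStmt

universe u

/-- in case (i), `E ≤ N_G(R0) ≤ H` -/
theorem E_le_H {G : Type u} [Group G] [Finite G] (hG : Cfsg.IsMinSimpleOddOrder G)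
    {M E R0 H : Subgroup G} {r q : ℕ} {z : G} (hCI : CI M E R0 r q z) (hHS : HS M R0 H r) :
    E ≤ H := by
  have hrank : Cfsg.PRankLE r 1 M :=
    Cfsg.Agent.Lib.Helper60.BG14SIGDEC.pRankLE_one_of_kappa hCI.hr
  have hN := Cfsg.Agent.Lib.Helper24.S52NORM.main hG M E R0 r hCI.hM hCI.hE hCI.hr.1 hrank
    hCI.hR0c hCI.hR0
  exact hN.trans hHS.hN

/-- an element of `H` of prime order `p ∈ σ(H)` lies in `H_σ` -/
theorem mem_sigmaCore_of_order {G : Type u} [Group G] [Finite G]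
    (hG : Cfsg.IsMinSimpleOddOrder G) {H : Subgroup G} (hH : IsCoatom H) {p : ℕ}
    (hp : p ∈ Cfsg.sigma H) {x : G} (hx : x ∈ H) (hxo : orderOf x = p) :
    x ∈ Cfsg.sigmaCore H := by
  have hpp : p.Prime := hp.1
  haveI : Fact p.Prime := ⟨hpp⟩
  have hQ : IsPGroup p (Subgroup.zpowers x) := by
    apply IsPGroup.of_card (n := 1)
    rw [Nat.card_zpowers, hxo, pow_one]
  have hle : Subgroup.zpowers x ≤ H := by
    rw [Subgroup.zpowers_le]
    exact hx
  exact Cfsg.Agent.Lib.Helper9.BG11b.le_sigmaCore_of_isPGroup hG hH hp hle hQ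
    (Subgroup.mem_zpowers x)

theorem main : IDfree.{u} → IqH.{u} := by
  intro hID G _ _ hG M E R0 H r q z hCI hHS hq
  have hEH := E_le_H hG hCI hHS
  have hz : z ∈ Cfsg.sigmaCore H :=
    mem_sigmaCore_of_order hG hHS.hH hq (hEH hCI.hz) hCI.hzo
  have h1 := hID hG M E R0 H r q z hCI hHS z ⟨hCI.hz, hz⟩ rfl
  have hqp : q.Prime := hCI.hq.1
  have h2 := hCI.hzo
  rw [h1, orderOf_one] at h2
  exact absurd h2 (ne_of_lt hqp.one_lt)

end Cfsg.Agent.Lib.Helper55.S51IQH
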