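import Mathlib
import Cfsg.Agent.Lib.Helper62.S55Stmt
import Cfsg.Agent.Lib.Helper57.BG14FHCore

set_option autoImplicit false

/-!
# S1355 piece FLE (spare seat, helper55)
-/

namespace Cfsg.Agent.Lib.Helper55.S55FLE

universe u

open Cfsg.Agent.Lib.Helper62.S55Stmt

theorem main : FLe.{u} := by
  intro G _ _ hG M hM
  unfold Cfsg.fittingHallOf Cfsg.sigmaCore
  apply Subgroup.map_mono
  apply sSup_le
  rintro N ⟨hNn, hNnil, hNcop⟩
  apply le_sSup
  exact ⟨hNn, fun p hp hpN =>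
    Cfsg.Agent.Lib.Helper57.BG14FHCore.mem_sigma_of_normal_hall hG.2.1 M hM N hNn hNnil hNcop p hp hpN⟩

end Cfsg.Agent.Lib.Helper55.S55FLE
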