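import Mathlib
import Cfsg.Prelude.Def_OddOrderLocal

set_option autoImplicit false

/-!
# S1364 (`K ≠ 1`: `K*` cyclic, nontrivial, `K* ≤ M_F`, `M_F` not cyclic): piece statements (helper55)

`Ks = K* = M_σ ∩ C_G(K)`.  `K*` cyclic: S1366 (`K*` is a Hall `κ(M*)`-subgroup of `M*`) + S1351.
`K* ≠ 1`: S1354.  Main point (`NSyl`): for every prime `q ∣ |K*|`, `M_σ` has a Sylow `q`-subgroup
`S` normal in `M`.
* `U ≠ 1`: `M_σ` is nilpotent (`Helper22.BG147N0.nilpotent_of_U_ne_bot`), `Helper13.S72TSYL.main`.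
* `U = 1`: `M = K M_σ`, `|K*| = q` prime (S1373), `K* ≤ M'' = (M_σ)'` (S1365).  Pure statement
  `Core` in `X = ↥M`, `N = M_σ`, `R = K`: `K* ≤ F(M_σ)` (`CFit`, from S1445), so `K* ≤ Q` for a
  normal `q`-subgroup `Q ≤ N` of `X`; an element `x ∈ K` of prime order acts on `N/Q` without fixed
  points (`FixC`), so `N/Q` is nilpotent (`QNil`, Thompson: `Helper24.BG11NF.nilpotent_of_fpf_prime`)
  and the preimage of its Sylow `q`-subgroup is a normal Sylow `q`-subgroup of `N` (`SylQ`).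
Then `S ≤ M_F` (`SFH`), `K* ≤ M_F`; and if `M_F` were cyclic, `K` would centralize `S` (S1443 with
`E = ⊥`: the elements of order `q` of `S` lie in `K*`), so `S ≤ K*`, against S1431 (clause 3).
-/

namespace Cfsg.Agent.Lib.Helper55.S64Stmt

universe u

/-- `K* = C_{M_σ}(K)`. -/
abbrev Ks {G : Type u} [Group G] (M K : Subgroup G) : Subgroup G :=
  Cfsg.sigmaCore M ⊓ Subgroup.centralizer (K : Set G)

/-- `M_σ` has a Sylow `q`-subgroup normalized by `M`. -/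
def HasNSyl {G : Type u} [Group G] (M : Subgroup G) (q : ℕ) : Prop :=
  ∃ S : Subgroup G, S ≤ Cfsg.sigmaCore M ∧ M ≤ Subgroup.normalizer (S : Set G) ∧ IsPGroup q S ∧
    ¬ q ∣ S.relIndex (Cfsg.sigmaCore M)

/-! ## Pure pieces -/

/-- FIXC (pure): an element `x` of prime order `p` fixing the coset `u F` (under conjugation), with
`p ∤ |F|`, centralizes an element of `u F`.  (The permutation `f ↦ u⁻¹ * x * (u * f) * x⁻¹` of `↥F`
has `p`-th power `1` (its `k`-th power is `f ↦ u⁻¹ * x ^ k * (u * f) * x⁻¹ ^ k`), and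
`Fintype.card ↥F` is prime to `p`: `Equiv.Perm.exists_fixed_point_of_prime` with `n = 1`.) -/
def FixC : Prop :=
  ∀ {X : Type u} [Group X] [Finite X] (F : Subgroup X) [F.Normal] (x u : X) (p : ℕ), p.Prime →
    x ^ p = 1 → ¬ p ∣ Nat.card F → u⁻¹ * (x * u * x⁻¹) ∈ F →
    ∃ f ∈ F, x * (u * f) = u * f * x

/-- QNIL (pure, from `FixC`): `N/Q` is nilpotent when `x` of prime order `p ∤ |Q|` has all its
fixed points on `N` inside `Q`.  (`Cfsg.Agent.Lib.Helper24.BG11NF.nilpotent_of_fpf_prime` in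
`X ⧸ Q` for `N.map (mk' Q)` (normal) and `mk x`: if `mk x * mk u = mk u * mk x`, `u ∈ N`, then
`u⁻¹ * (x * u * x⁻¹) ∈ Q`, `FixC` gives `f ∈ Q` with `u * f ∈ N` commuting with `x`, so
`u * f ∈ Q`, `u ∈ Q`, `mk u = 1`.) -/
def QNil : Prop :=
  ∀ {X : Type u} [Group X] [Finite X] (N Q : Subgroup X) [N.Normal] [Q.Normal] (x : X) (p : ℕ),
    p.Prime → x ^ p = 1 → ¬ p ∣ Nat.card Q → Q ≤ N →
    (∀ u ∈ N, x * u = u * x → u ∈ Q) →
    Group.IsNilpotent ↥(N.map (QuotientGroup.mk' Q))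

/-- SYLQ (pure): if `Q ≤ N` is a normal `q`-subgroup and `N/Q` is nilpotent then `N` has a Sylow
`q`-subgroup normal in `X`.  (`P : Sylow q ↥(N.map (mk' Q))` is normal (`isNilpotent_of_finite_tfae`,
fourth item), hence characteristic (`Sylow.characteristic_of_normal`), so its image `P'` in `X ⧸ Q`
is normal (`ConjAct.normal_of_characteristic_of_normal`); `S := P'.comap (mk' Q)`: normal, `≤ N`
(`comap (map N) = N ⊔ Q = N`), a `q`-group (`s ^ q ^ a ∈ Q`, then `(s ^ q ^ a) ^ q ^ b = 1`),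
`S.relIndex N = P'.relIndex (N.map (mk' Q)) = P.index` (`Subgroup.relIndex_comap`).) -/
def SylQ : Prop :=
  ∀ {X : Type u} [Group X] [Finite X] (N Q : Subgroup X) [N.Normal] [Q.Normal] (q : ℕ)
    [Fact q.Prime], Q ≤ N → IsPGroup q Q → Group.IsNilpotent ↥(N.map (QuotientGroup.mk' Q)) →
    ∃ S : Subgroup X, S.Normal ∧ S ≤ N ∧ IsPGroup q S ∧ ¬ q ∣ S.relIndex N

/-- CFIT (pure, from `FixC` and S1445): `C := C_N(R)` of prime order inside `[N, N]` lies in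
`F(N)`.  (Put `F := Cfsg.fittingOf N`, normal in `X`
(`Cfsg.Agent.Lib.Helper21.Layer.fitting_characteristic`, `ConjAct.normal_of_characteristic_of_normal`)
and `F ≤ N`.  If `F ⊓ C(R) ≠ ⊥`: it is a nontrivial subgroup of `C`, of prime order, so `C ≤ F`.
If `F ⊓ C(R) = ⊥`: `Cfsg.Agent.S1445.result hodd N R ..` gives `⁅N, R⁆ ≤ F`; take `x ∈ R` of prime
order `p` (`Cfsg.Agent.Lib.Helper10.KW0.exists_pow_prime_order`), `p ∤ |F|` (coprime); for `u ∈ N`,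
`u⁻¹ * (x * u * x⁻¹) = ⁅u⁻¹, x⁆ ∈ F`, `FixC` gives `f ∈ F` with `u * f ∈ N ⊓ C({x}) = C`: `N = C F`.
`C` is commutative (prime order), so `⁅N, N⁆ ≤ F` (compute in `X ⧸ F`), hence
`C ≤ F ⊓ C(R) = ⊥`: contradiction.) -/
def CFit : Prop :=
  ∀ {X : Type u} [Group X] [Finite X] [Group.IsSolvable X], Odd (Nat.card X) →
  ∀ (N R : Subgroup X) [N.Normal], N ⊔ R = ⊤ → (Nat.card N).Coprime (Nat.card R) → R ≠ ⊥ →
    (∀ x ∈ R, x ≠ 1 →
      N ⊓ Subgroup.centralizer ({x} : Set X) = N ⊓ Subgroup.centralizer (R : Set X)) →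
    (Nat.card ↥(N ⊓ Subgroup.centralizer (R : Set X))).Prime →
    N ⊓ Subgroup.centralizer (R : Set X) ≤ ⁅N, N⁆ →
    N ⊓ Subgroup.centralizer (R : Set X) ≤ Cfsg.fittingOf N

/-- CORE (pure, from `CFit`, `QNil`, `SylQ`).  (`C ≤ F(N) ≤ F(X)` (`F(N)` normal nilpotent:
`Cfsg.Agent.Lib.Helper78.Fitting.le_fitting`); for `P : Sylow q X`, `y ∈ C`, `b : X`:
`(b * y * b⁻¹) ^ P.index ∈ P` (`Cfsg.Agent.Lib.Helper71.Fitting.pow_index_mem_of_mem_fitting`),
`b * y * b⁻¹` has order dividing `q` and `q ∤ P.index`, so `b * y * b⁻¹ ∈ P`: `C ≤ P.normalCore`.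
`Q := P.normalCore ⊓ N`: normal, `q`-group, `C ≤ Q ≤ N`.  `x ∈ R` of prime order `p`, `p ∤ |Q|`;
`u ∈ N` commuting with `x` lies in `N ⊓ C({x}) = C ≤ Q`: `QNil`, then `SylQ`.) -/
def Core : Prop :=
  ∀ {X : Type u} [Group X] [Finite X] [Group.IsSolvable X], Odd (Nat.card X) →
  ∀ (N R : Subgroup X) [N.Normal] (q : ℕ) [Fact q.Prime], N ⊔ R = ⊤ →
    (Nat.card N).Coprime (Nat.card R) → R ≠ ⊥ →
    (∀ x ∈ R, x ≠ 1 →
      N ⊓ Subgroup.centralizer ({x} : Set X) = N ⊓ Subgroup.centralizer (R : Set X)) →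
    Nat.card ↥(N ⊓ Subgroup.centralizer (R : Set X)) = q →
    N ⊓ Subgroup.centralizer (R : Set X) ≤ ⁅N, N⁆ →
    ∃ S : Subgroup X, S.Normal ∧ S ≤ N ∧ IsPGroup q S ∧ ¬ q ∣ S.relIndex N

/-- PINS (pure): a `q`-element of `N` lies in a normal subgroup `S` of `N` of index prime to `q`.
(In `↥N ⧸ S.subgroupOf N`: the image of `y` has order dividing `q ^ k` and the order of the
quotient.) -/
def PInS : Prop :=
  ∀ {G : Type u} [Group G] [Finite G] (S N : Subgroup G) (q : ℕ), q.Prime → S ≤ N →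
    N ≤ Subgroup.normalizer (S : Set G) → ¬ q ∣ S.relIndex N →
    ∀ y ∈ N, ∀ k : ℕ, y ^ q ^ k = 1 → y ∈ S

/-- CYCU (pure): in a cyclic subgroup, two elements of the same prime order generate the same
subgroup.  (`IsCyclic.card_pow_eq_one_le` in `↥C`: at most `q` solutions of `a ^ q = 1`, and
`zpowers y` gives `q` of them.) -/
def CycU : Prop :=
  ∀ {G : Type u} [Group G] [Finite G] (C : Subgroup G), IsCyclic ↥C → ∀ (q : ℕ), q.Prime →
    ∀ x ∈ C, ∀ y ∈ C, orderOf x = q → orderOf y = q → x ∈ Subgroup.zpowers y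

/-! ## Pieces in the minimal simple group -/

/-- SFH: a Sylow `q`-subgroup of `M_σ` normalized by `M` lies in `M_F`.  (`S.subgroupOf M` is
normal (`Subgroup.normal_subgroupOf_iff_le_normalizer`), a `q`-group (nilpotent), and its index
`S.relIndex M = S.relIndex M_σ * M_σ.relIndex M` is prime to `q`
(`(Cfsg.Agent.S1350.result hG M hM).1.2.2 q hq hσ`): `le_sSup`, then map by `M.subtype`.) -/
def SFH : Prop :=
  ∀ {G : Type u} [Group G] [Finite G], Cfsg.IsMinSimpleOddOrder G →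
  ∀ (M : Subgroup G), IsCoatom M → ∀ (S : Subgroup G) (q : ℕ) [Fact q.Prime],
    S ≤ Cfsg.sigmaCore M → M ≤ Subgroup.normalizer (S : Set G) → IsPGroup q S →
    ¬ q ∣ S.relIndex (Cfsg.sigmaCore M) → q ∈ Cfsg.sigma M → S ≤ Cfsg.fittingHallOf M

/-- SIGFH: a nilpotent `M_σ` lies in `M_F`.  (`Cfsg.piCore (Cfsg.sigma M) ↥M` is normal, nilpotent
(`Subgroup.equivMapOfInjective`), and its order is prime to its index: the primes of `|M_σ|` are in
`σ(M)` and do not divide the index, `(Cfsg.Agent.S1350.result hG M hM).1`.) -/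
def SigFH : Prop :=
  ∀ {G : Type u} [Group G] [Finite G], Cfsg.IsMinSimpleOddOrder G →
  ∀ (M : Subgroup G), IsCoatom M → Group.IsNilpotent ↥(Cfsg.sigmaCore M) →
    Cfsg.sigmaCore M ≤ Cfsg.fittingHallOf M

/-- TRANS (from `Core`; LONG, two seats welcome): the case `U = 1`.  (`Core` for `X := ↥M`
(solvable: `Cfsg.Agent.Lib.Helper9.BG10a.isSolvable_of_ne_top hG hM.1`, odd),
`N := (sigmaCore M).subgroupOf M` (normal: `Cfsg.Agent.Lib.Helper9.BG11b.sigmaCore_normal`),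
`R := K.subgroupOf M`.  `N ⊔ R = ⊤`: `hKU.compl.2.2.2` with `U = ⊥`.  Coprime: the primes of `|K|`
are in `κ(M)` (`hKU.hall.2.1`), so outside `σ(M)`; `Cfsg.Agent.Lib.Helper22.BG1210.
coprime_card_sigmaCore`.  Prime action: `(Cfsg.Agent.S1430.result hG M hM K hKU.hall hK1).1`.
`(N ⊓ C(R)).map M.subtype = Ks M K` (card).  `Ks M K ≤ ⁅M_σ, M_σ⁆`:
`Cfsg.Agent.S1365.result hG M hM K U hKU hK1` (`⁅M, M⁆ = U ⊔ M_σ = M_σ`), and
`(⁅N, N⁆).map M.subtype = ⁅M_σ, M_σ⁆` (`Subgroup.map_commutator`).  Result: `S := S'.map M.subtype`,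
`Cfsg.Agent.Lib.Helper9.BG11b.le_normalizer_map_subtype`, `Subgroup.relIndex_map_map_of_injective`
or cards.) -/
def Trans : Prop :=
  ∀ {G : Type u} [Group G] [Finite G], Cfsg.IsMinSimpleOddOrder G →
  ∀ (M K U : Subgroup G), IsCoatom M → Cfsg.IsSigmaDecomposition M K U → K ≠ ⊥ → U = ⊥ →
  ∀ (q : ℕ) [Fact q.Prime], Nat.card ↥(Ks M K) = q → HasNSyl M q

/-- NSYL (from `Trans`).  (`U = ⊥`: `Cfsg.Agent.S1373.result` gives `|Ks|` prime, so `q = |Ks|`,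
`Trans`.  `U ≠ ⊥`: `M_σ` nilpotent (`Cfsg.Agent.Lib.Helper22.BG147N0.nilpotent_of_U_ne_bot`),
`x ∈ Ks` of order `q` (Cauchy), `Cfsg.Agent.Lib.Helper13.S72TSYL.main M (sigmaCore M) _ _ _ q x _ _`
gives `T₀ : Sylow q ↥(sigmaCore M)` with `M ≤ N(T₀.map _)`; `S := T₀.map _`, its `relIndex` in
`M_σ` is `T₀.index`.) -/
def NSyl : Prop :=
  ∀ {G : Type u} [Group G] [Finite G], Cfsg.IsMinSimpleOddOrder G →
  ∀ (M K U : Subgroup G), IsCoatom M → Cfsg.IsSigmaDecomposition M K U → K ≠ ⊥ →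
  ∀ (q : ℕ) [Fact q.Prime], q ∣ Nat.card ↥(Ks M K) → HasNSyl M q

/-- LE: `K* ≤ M_F`.  (`U ≠ ⊥`: `SigFH`.  `U = ⊥`: `q := |Ks|` prime, `S` from `NSyl`, `Ks ≤ S` by
`PInS`, `S ≤ M_F` by `SFH`.) -/
def LE : Prop :=
  ∀ {G : Type u} [Group G] [Finite G], Cfsg.IsMinSimpleOddOrder G →
  ∀ (M K U : Subgroup G), IsCoatom M → Cfsg.IsSigmaDecomposition M K U → K ≠ ⊥ →
    Ks M K ≤ Cfsg.fittingHallOf M

/-- NCYC: `M_F` is not cyclic. -/
def NCyc : Prop :=
  ∀ {G : Type u} [Group G] [Finite G], Cfsg.IsMinSimpleOddOrder G →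
  ∀ (M K U : Subgroup G), IsCoatom M → Cfsg.IsSigmaDecomposition M K U → K ≠ ⊥ →
    ¬ IsCyclic ↥(Cfsg.fittingHallOf M)

end Cfsg.Agent.Lib.Helper55.S64Stmt
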